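import Cfsg.Agent.H65.Ore.Sieve
import Cfsg.Agent.Blocks.SylowIn

/-!
# T1 in the weighted form, exceptional and non-exceptional characters separately (S2443)

`x`, `y` of order `p`, `|C(x)| = p`, `p` exact, `e = |N(⟨x⟩) : ⟨x⟩|`, `e t = p - 1`, `g` of order prime to `p`. The `e`
non-exceptional characters (`NE`, degrees `≡ ± 1`) have `|χ x| = 1`, the `t` exceptional ones (`X`, degrees `≡ ± e`) are equal at
`g`; all other characters vanish at `x`.

* `Dat G p e t NE X` : the data; `exists_dat` : the constructor (`|G| = N`, numerical check `chkSC`);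
* `Dat.prd_weighted` : `(∑_{NE, χ ≠ 1} χ(1)⁻² + ∑_X ((p - e) / (t Θ(1)))²) (|C(g)| - 1) < 1` gives `Prd x y g`;
* `Dat.prd` : `DN`, `DX` lower bounds for the degrees, `(c - 1) ((e - 1) t DX² + (p - e)² DN²) < t DN² DX²`;
* `Dat.prd_all` : the same for all `g` (`g` of order divisible by `p` has `|C(g)| = p`).
-/

set_option autoImplicit false

namespace Cfsg.Agent.H65.Ore

open Cfsg Cfsg.Agent.Characters Subgroup
open scoped ComplexConjugate

universe u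

variable {G : Type u} [Group G]

/-- The principal block of a self-centralizing exact prime. -/
structure Dat (G : Type u) [Group G] (p e t : ℕ) (NE X : Finset (IrrCharacter G)) : Prop where
  disj : Disjoint NE X
  cardNE : NE.card = e
  cardX : X.card = t
  het : e * t = p - 1
  one_mem : one1 G ∈ NE
  ne_val : ∀ χ ∈ NE, ∀ x : G, orderOf x = p → ‖(χ : G → ℂ) x‖ = 1
  x_val : ∀ x : G, orderOf x = p → ∑ Θ ∈ X, ‖(Θ : G → ℂ) x‖ ^ 2 = (p : ℝ) - e
  off : ∀ χ : IrrCharacter G, χ ∉ NE → χ ∉ X → ∀ x : G, orderOf x = p → (χ : G → ℂ) x = 0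
  eq_of : ∀ Θ ∈ X, ∀ Θ' ∈ X, ∀ g : G, ¬ p ∣ orderOf g → (Θ : G → ℂ) g = (Θ' : G → ℂ) g
  ne_deg : ∀ χ ∈ NE, charDegree (χ : G → ℂ) % p = 1 ∨ charDegree (χ : G → ℂ) % p = p - 1
  x_deg : ∀ Θ ∈ X, charDegree (Θ : G → ℂ) % p = e ∨ charDegree (Θ : G → ℂ) % p = p - e

theorem mod_of_dvd_sub {p d a : ℕ} (h : (p : ℤ) ∣ (d : ℤ) - a) (ha : a < p) : d % p = a := by
  have h1 : (d : ℤ) ≡ (a : ℤ) [ZMOD p] := (Int.modEq_iff_dvd.2 h).symm
  have h2 : d ≡ a [MOD p] := Int.natCast_modEq_iff.1 h1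
  rw [h2, Nat.mod_eq_of_lt ha]

theorem mod_of_dvd_add {p d a : ℕ} (h : (p : ℤ) ∣ (d : ℤ) + a) (ha : 0 < a) (ha' : a < p) : d % p = p - a := by
  apply mod_of_dvd_sub _ (by omega)
  have h1 : (d : ℤ) - ((p - a : ℕ) : ℤ) = (d + a) - p := by
    rw [Nat.cast_sub ha'.le]; ring
  rw [h1]
  exact dvd_sub_self_right.2 h

variable [Finite G]

/-- **The constructor.** -/
theorem exists_dat [IsSimpleGroup G] (hG : ¬ IsMulCommutative G) {p : ℕ} (hp : p.Prime) {N : ℕ}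
    (hN : Nat.card G = N) {x : G} (hx : orderOf x = p) (hc : Nat.card (centralizer ({x} : Set G)) = p)
    (e t S : ℕ) (hnum : chkSC N p e t S = true) : ∃ NE X : Finset (IrrCharacter G), Dat G p e t NE X := by
  classical
  have : Fact p.Prime := ⟨hp⟩
  obtain ⟨hp2, ht, -, he0, P, hP, hC, hrel, hconj⟩ := setup hG hp hN hx hc e t S hnum
  obtain ⟨NE, X, ε, d, T, hdis, hNE, hX, hε, hd, hone, hv, hvX, hXd, hreg, hz⟩ :=
    SmallSimple.TheoremBCor.theoremB_selfCent p hp2 P hP hC e t hrel ht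
  have hep : e < p := by
    have h1 : e ≤ p - 1 := Nat.le_of_dvd (by have := hp.two_le; omega) ⟨t, ht.symm⟩
    have := hp.two_le
    omega
  have hmove : ∀ y : G, orderOf y = p → ∃ z ∈ P, z ≠ 1 ∧ ∀ χ : IrrCharacter G, (χ : G → ℂ) y = (χ : G → ℂ) z := by
    intro y hy
    obtain ⟨z, hz, hz1, hyz⟩ := hconj y hy
    refine ⟨z, hz, hz1, fun χ => ?_⟩
    obtain ⟨g, rfl⟩ := isConj_iff.1 hyz
    exact (Core.isIrr_isClassFunction χ.2 y g).symm
  have hne : ∀ χ ∈ NE, ∀ y : G, orderOf y = p → ‖(χ : G → ℂ) y‖ = 1 := by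
    intro χ hχ y hy
    obtain ⟨z, hz, hz1, h⟩ := hmove y hy
    rw [h χ, hv χ hχ z hz hz1]
    rcases hε χ hχ with h | h <;> rw [h] <;> simp
  have hoff : ∀ χ : IrrCharacter G, χ ∉ NE → χ ∉ X → ∀ y : G, orderOf y = p → (χ : G → ℂ) y = 0 := by
    intro χ h1 h2 y hy
    obtain ⟨z, hzP, hz1, h⟩ := hmove y hy
    rw [h χ]
    exact (hz χ h1 h2).1 z hzP hz1
  have hfin : Finite (IrrCharacter G) := Core.finite_irr
  have := Fintype.ofFinite (IrrCharacter G)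
  have hpn : ∀ {n : ℕ} {a m : ℤ}, (n : ℂ) = ((a + p * m : ℤ) : ℂ) → (p : ℤ) ∣ (n : ℤ) - a := by
    intro n a m h
    have h2 : (n : ℤ) = a + p * m := by exact_mod_cast h
    exact ⟨m, by rw [h2]; ring⟩
  refine ⟨NE, X, hdis, hNE, hX, ht, ?_, hne, ?_, hoff, ?_, ?_, ?_⟩
  · obtain ⟨χ, hχ, hχ1, -⟩ := hone
    have : χ = one1 G := Subtype.ext hχ1
    rw [← this]
    exact hχ
  · intro y hy
    have h1 := H686.CharKit.sum_normSq y
    simp only [Complex.normSq_eq_norm_sq] at h1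
    have hcy : Nat.card (centralizer ({y} : Set G)) = p := by
      obtain ⟨z, hzP, hz1, hyz⟩ := hconj y hy
      have h2 : centralizer ({z} : Set G) = (P : Subgroup G) := by
        rw [← hC, show centralizer (P : Set G) = centralizer ((P : Subgroup G) : Set G) from rfl,
          ← zpowers_eq (P := (P : Subgroup G)) hP hzP hz1, SmallSimple.SelfCentPrime.centralizer_zpowers]
      have h3 : Nat.card (centralizer ({y} : Set G)) = Nat.card (centralizer ({z} : Set G)) :=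
        (Blocks.SylowIn.card_centralizer_of_isConj hyz).symm
      rw [h3, h2]
      exact hP
    rw [hcy, ← Finset.sum_subset (Finset.subset_univ (NE ∪ X)), Finset.sum_union hdis] at h1
    · have h2 : ∑ χ ∈ NE, ‖(χ : G → ℂ) y‖ ^ 2 = e := by
        rw [Finset.sum_congr rfl fun χ hχ => by rw [hne χ hχ y hy, one_pow], Finset.sum_const, hNE, nsmul_eq_mul,
          mul_one]
      rw [h2] at h1
      linarith
    · intro χ _ hχ
      rw [Finset.mem_union, not_or] at hχ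
      rw [hoff χ hχ.1 hχ.2 y hy]
      simp
  · intro Θ hΘ Θ' hΘ' g hg
    have h1 := hreg Θ hΘ g hg
    have h2 := hreg Θ' hΘ' g hg
    rw [h1] at h2
    have hd0 : (d : ℂ) ≠ 0 := by rcases hd with rfl | rfl <;> simp
    exact mul_left_cancel₀ hd0 h2
  · intro χ hχ
    obtain ⟨m, hm⟩ := SmallSimple.TheoremBCor.degree_nonexc (P := (P : Subgroup G)) hP
      (Core.isIrr_isCharacter χ.2) (ε := ε χ) (fun y hy hy1 => hv χ hχ y hy hy1)
    rw [cast_deg] at hm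
    have h3 := hpn (a := ε χ) (m := (m : ℤ) - ε χ) (by push_cast; exact_mod_cast hm)
    rcases hε χ hχ with h | h
    · left
      rw [h] at h3
      exact mod_of_dvd_sub (by exact_mod_cast h3) hp.one_lt
    · right
      rw [h, sub_neg_eq_add] at h3
      exact mod_of_dvd_add (by exact_mod_cast h3) one_pos hp.one_lt
  · intro Θ hΘ
    obtain ⟨hSc, hS1, hSv⟩ := hvX Θ hΘ
    obtain ⟨m, hm⟩ := SmallSimple.TheoremBCor.degree_exc (P := (P : Subgroup G)) hP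
      (Core.isIrr_isCharacter Θ.2) (d := d) (S := T Θ) hS1 hSv
    rw [cast_deg, hSc] at hm
    have h3 := hpn (a := d * e) (m := m) (by push_cast; exact_mod_cast hm)
    rcases hd with h | h
    · left
      rw [h, one_mul] at h3
      exact mod_of_dvd_sub h3 hep
    · right
      rw [h, neg_one_mul, sub_neg_eq_add] at h3
      exact mod_of_dvd_add h3 he0 hep

/-- **T1, weighted.** -/
theorem Dat.prd_weighted {p e t : ℕ} {NE X : Finset (IrrCharacter G)} (h : Dat G p e t NE X) (hp : p.Prime) {x y g : G}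
    (hx : orderOf x = p) (hy : orderOf y = p) (hg : ¬ p ∣ orderOf g) [DecidableEq (IrrCharacter G)]
    (hw : (∑ χ ∈ NE.erase (one1 G), (1 / (charDegree (χ : G → ℂ) : ℝ)) ^ 2 +
      ∑ Θ ∈ X, (((p : ℝ) - e) / (t * charDegree (Θ : G → ℂ))) ^ 2) *
      ((Nat.card (centralizer ({g} : Set G)) : ℝ) - 1) < 1) : Prd x y g := by
  have hfin : Finite (IrrCharacter G) := Core.finite_irr
  have := Fintype.ofFinite (IrrCharacter G)
  apply prd_of_ne_zero
  intro h0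
  have hdeg : ∀ χ : IrrCharacter G, (0 : ℝ) < charDegree (χ : G → ℂ) := fun χ => by
    exact_mod_cast Nat.pos_of_ne_zero (charDegree_ne_zero χ.2)
  -- the sum over the block
  have h1 : ∑ χ : IrrCharacter G, (χ : G → ℂ) x * (χ : G → ℂ) y * conj ((χ : G → ℂ) g) / (χ : G → ℂ) 1 =
      1 + ∑ χ ∈ NE.erase (one1 G), (χ : G → ℂ) x * (χ : G → ℂ) y * conj ((χ : G → ℂ) g) / (χ : G → ℂ) 1 +
        ∑ χ ∈ X, (χ : G → ℂ) x * (χ : G → ℂ) y * conj ((χ : G → ℂ) g) / (χ : G → ℂ) 1 := by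
    rw [← Finset.sum_subset (Finset.subset_univ (NE ∪ X)), Finset.sum_union h.disj,
      ← Finset.add_sum_erase NE _ h.one_mem]
    · simp [one1_apply]
    · intro χ _ hχ
      rw [Finset.mem_union, not_or] at hχ
      rw [h.off χ hχ.1 hχ.2 x hx]
      simp
  rw [h1] at h0
  -- the exceptional part
  have hpe : (0 : ℝ) ≤ (p : ℝ) - e := by
    rw [← h.x_val x hx]
    exact Finset.sum_nonneg fun _ _ => by positivity
  have hCS : ‖∑ Θ ∈ X, (Θ : G → ℂ) x * (Θ : G → ℂ) y‖ ≤ (p : ℝ) - e := by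
    refine (norm_sum_le _ _).trans ?_
    have h2 := Finset.sum_mul_sq_le_sq_mul_sq X (fun Θ : IrrCharacter G => ‖(Θ : G → ℂ) x‖)
      (fun Θ : IrrCharacter G => ‖(Θ : G → ℂ) y‖)
    rw [h.x_val x hx, h.x_val y hy, ← pow_two] at h2
    have h3 := abs_le_of_sq_le_sq' h2 hpe
    refine le_trans (le_of_eq ?_) h3.2
    exact Finset.sum_congr rfl fun Θ _ => norm_mul _ _
  have hXb : ‖∑ χ ∈ X, (χ : G → ℂ) x * (χ : G → ℂ) y * conj ((χ : G → ℂ) g) / (χ : G → ℂ) 1‖ ≤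
      ∑ Θ ∈ X, ((p : ℝ) - e) / (t * charDegree (Θ : G → ℂ)) * ‖(Θ : G → ℂ) g‖ := by
    rcases X.eq_empty_or_nonempty with hX0 | ⟨Θ₀, hΘ₀⟩
    · rw [hX0]; simp
    have hone : ¬ p ∣ orderOf (1 : G) := by
      rw [orderOf_one]; exact fun h => hp.one_lt.ne' (Nat.dvd_one.1 h)
    have e1 : ∀ Θ ∈ X, (Θ : G → ℂ) g = (Θ₀ : G → ℂ) g := fun Θ hΘ => h.eq_of Θ hΘ Θ₀ hΘ₀ g hg
    have e2 : ∀ Θ ∈ X, (Θ : G → ℂ) 1 = (Θ₀ : G → ℂ) 1 := fun Θ hΘ => h.eq_of Θ hΘ Θ₀ hΘ₀ 1 hone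
    have e3 : ∀ Θ ∈ X, (charDegree (Θ : G → ℂ) : ℝ) = charDegree (Θ₀ : G → ℂ) := by
      intro Θ hΘ
      have h4 := e2 Θ hΘ
      rw [cast_deg, cast_deg] at h4
      exact_mod_cast h4
    have h5 : ∑ χ ∈ X, (χ : G → ℂ) x * (χ : G → ℂ) y * conj ((χ : G → ℂ) g) / (χ : G → ℂ) 1 =
        (∑ Θ ∈ X, (Θ : G → ℂ) x * (Θ : G → ℂ) y) * (conj ((Θ₀ : G → ℂ) g) / (Θ₀ : G → ℂ) 1) := by
      rw [Finset.sum_mul]
      refine Finset.sum_congr rfl fun Θ hΘ => ?_
      rw [e1 Θ hΘ, e2 Θ hΘ]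
      ring
    have h6 : ∑ Θ ∈ X, ((p : ℝ) - e) / (t * charDegree (Θ : G → ℂ)) * ‖(Θ : G → ℂ) g‖ =
        ((p : ℝ) - e) * (‖(Θ₀ : G → ℂ) g‖ / charDegree (Θ₀ : G → ℂ)) := by
      rw [Finset.sum_congr rfl fun Θ hΘ => by rw [e1 Θ hΘ, e3 Θ hΘ], Finset.sum_const, h.cardX, nsmul_eq_mul]
      have ht : (t : ℝ) ≠ 0 := by
        rw [← h.cardX]
        exact_mod_cast (Finset.card_pos.2 ⟨Θ₀, hΘ₀⟩).ne'
      have := (hdeg Θ₀).ne'
      field_simp
    rw [h5, h6, norm_mul, norm_div, Complex.norm_conj, cast_deg, Complex.norm_natCast]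
    exact mul_le_mul_of_nonneg_right hCS (by positivity)
  -- the non-exceptional part
  have hNb : ‖∑ χ ∈ NE.erase (one1 G), (χ : G → ℂ) x * (χ : G → ℂ) y * conj ((χ : G → ℂ) g) / (χ : G → ℂ) 1‖ ≤
      ∑ χ ∈ NE.erase (one1 G), 1 / (charDegree (χ : G → ℂ) : ℝ) * ‖(χ : G → ℂ) g‖ := by
    refine (norm_sum_le _ _).trans (le_of_eq ?_)
    refine Finset.sum_congr rfl fun χ hχ => ?_
    have hχ' := Finset.mem_of_mem_erase hχ
    rw [norm_div, norm_mul, norm_mul, Complex.norm_conj, h.ne_val χ hχ' x hx, h.ne_val χ hχ' y hy, cast_deg,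
      Complex.norm_natCast]
    ring
  have h7 : (1 : ℝ) ≤ ∑ χ ∈ NE.erase (one1 G), 1 / (charDegree (χ : G → ℂ) : ℝ) * ‖(χ : G → ℂ) g‖ +
      ∑ Θ ∈ X, ((p : ℝ) - e) / (t * charDegree (Θ : G → ℂ)) * ‖(Θ : G → ℂ) g‖ := by
    have h8 : ∑ χ ∈ NE.erase (one1 G), (χ : G → ℂ) x * (χ : G → ℂ) y * conj ((χ : G → ℂ) g) /
        (χ : G → ℂ) 1 + ∑ χ ∈ X, (χ : G → ℂ) x * (χ : G → ℂ) y * conj ((χ : G → ℂ) g) / (χ : G → ℂ) 1 = -1 := by
      linear_combination h0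
    have h12 := (norm_add_le _ _).trans (add_le_add hNb hXb)
    rw [h8, norm_neg, norm_one] at h12
    exact h12
  -- Cauchy-Schwarz
  set a : IrrCharacter G → ℝ := fun χ => if χ ∈ X then ((p : ℝ) - e) / (t * charDegree (χ : G → ℂ)) else
    1 / (charDegree (χ : G → ℂ) : ℝ) with ha
  have hd2 : Disjoint (NE.erase (one1 G)) X := h.disj.mono_left (Finset.erase_subset _ _)
  have haN : ∀ χ ∈ NE.erase (one1 G), a χ = 1 / (charDegree (χ : G → ℂ) : ℝ) := fun χ hχ => by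
    rw [ha]; exact if_neg (Finset.disjoint_left.1 hd2 hχ)
  have haX : ∀ χ ∈ X, a χ = ((p : ℝ) - e) / (t * charDegree (χ : G → ℂ)) := fun χ hχ => by
    rw [ha]; exact if_pos hχ
  have h8 := Finset.sum_mul_sq_le_sq_mul_sq (NE.erase (one1 G) ∪ X) a (fun χ : IrrCharacter G => ‖(χ : G → ℂ) g‖)
  have e1 : ∑ χ ∈ NE.erase (one1 G) ∪ X, a χ * ‖(χ : G → ℂ) g‖ =
      ∑ χ ∈ NE.erase (one1 G), 1 / (charDegree (χ : G → ℂ) : ℝ) * ‖(χ : G → ℂ) g‖ +
      ∑ Θ ∈ X, ((p : ℝ) - e) / (t * charDegree (Θ : G → ℂ)) * ‖(Θ : G → ℂ) g‖ := by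
    rw [Finset.sum_union hd2]
    congr 1
    · exact Finset.sum_congr rfl fun χ hχ => by rw [haN χ hχ]
    · exact Finset.sum_congr rfl fun χ hχ => by rw [haX χ hχ]
  have e2 : ∑ χ ∈ NE.erase (one1 G) ∪ X, a χ ^ 2 = ∑ χ ∈ NE.erase (one1 G), (1 / (charDegree (χ : G → ℂ) : ℝ)) ^ 2 +
      ∑ Θ ∈ X, (((p : ℝ) - e) / (t * charDegree (Θ : G → ℂ))) ^ 2 := by
    rw [Finset.sum_union hd2]
    congr 1
    · exact Finset.sum_congr rfl fun χ hχ => by rw [haN χ hχ]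
    · exact Finset.sum_congr rfl fun χ hχ => by rw [haX χ hχ]
  have e3 : ∑ χ ∈ NE.erase (one1 G) ∪ X, ‖(χ : G → ℂ) g‖ ^ 2 ≤ (Nat.card (centralizer ({g} : Set G)) : ℝ) - 1 := by
    rw [← sum_erase_sq g]
    apply Finset.sum_le_sum_of_subset_of_nonneg
    · intro χ hχ
      rw [Finset.mem_union] at hχ
      rw [Finset.mem_erase]
      refine ⟨?_, Finset.mem_univ _⟩
      rcases hχ with hχ | hχ
      · exact Finset.ne_of_mem_erase hχ
      · rintro rfl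
        exact Finset.disjoint_left.1 h.disj h.one_mem hχ
    · intro _ _ _; positivity
  rw [e1, e2] at h8
  have h9 : (1 : ℝ) ≤ (∑ χ ∈ NE.erase (one1 G), 1 / (charDegree (χ : G → ℂ) : ℝ) * ‖(χ : G → ℂ) g‖ +
      ∑ Θ ∈ X, ((p : ℝ) - e) / (t * charDegree (Θ : G → ℂ)) * ‖(Θ : G → ℂ) g‖) ^ 2 := one_le_pow₀ h7
  have h10 : (0 : ℝ) ≤ ∑ χ ∈ NE.erase (one1 G), (1 / (charDegree (χ : G → ℂ) : ℝ)) ^ 2 +
      ∑ Θ ∈ X, (((p : ℝ) - e) / (t * charDegree (Θ : G → ℂ))) ^ 2 := by positivity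
  have h11 := mul_le_mul_of_nonneg_left e3 h10
  linarith

/-- **T1, split form.** -/
theorem Dat.prd {p e t : ℕ} {NE X : Finset (IrrCharacter G)} (h : Dat G p e t NE X) (hp : p.Prime) {x y g : G}
    (hx : orderOf x = p) (hy : orderOf y = p) (hg : ¬ p ∣ orderOf g) {DN DX c : ℕ}
    (hN : ∀ χ : IrrCharacter G, (χ : G → ℂ) ≠ 1 →
      (charDegree (χ : G → ℂ) % p = 1 ∨ charDegree (χ : G → ℂ) % p = p - 1) → DN ≤ charDegree (χ : G → ℂ))
    (hX : ∀ χ : IrrCharacter G, (χ : G → ℂ) ≠ 1 →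
      (charDegree (χ : G → ℂ) % p = e ∨ charDegree (χ : G → ℂ) % p = p - e) → DX ≤ charDegree (χ : G → ℂ))
    (hc : Nat.card (centralizer ({g} : Set G)) ≤ c)
    (hnum : (c - 1) * ((e - 1) * t * DX ^ 2 + (p - e) ^ 2 * DN ^ 2) < t * DN ^ 2 * DX ^ 2) : Prd x y g := by
  classical
  apply h.prd_weighted hp hx hy hg
  have hpos : 0 < t * DN ^ 2 * DX ^ 2 := lt_of_le_of_lt (Nat.zero_le _) hnum
  have ht0 : 0 < t := by
    by_contra h0
    have : t = 0 := by omega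
    rw [this] at hpos; simp at hpos
  have hDN0 : 0 < DN := by
    by_contra h0
    have : DN = 0 := by omega
    rw [this] at hpos; simp at hpos
  have hDX0 : 0 < DX := by
    by_contra h0
    have : DX = 0 := by omega
    rw [this] at hpos; simp at hpos
  have he1 : 1 ≤ e := by
    rw [← h.cardNE]
    exact Finset.card_pos.2 ⟨_, h.one_mem⟩
  have hep : e ≤ p := by
    have h1 : e ≤ p - 1 := Nat.le_of_dvd (by have := hp.two_le; omega) ⟨t, h.het.symm⟩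
    omega
  have hc1 : 1 ≤ Nat.card (centralizer ({g} : Set G)) := Nat.card_pos
  have hDN : (0 : ℝ) < DN := by exact_mod_cast hDN0
  have hDX : (0 : ℝ) < DX := by exact_mod_cast hDX0
  have ht : (0 : ℝ) < t := by exact_mod_cast ht0
  have hpe : (0 : ℝ) ≤ (p : ℝ) - e := by
    have : (e : ℝ) ≤ p := by exact_mod_cast hep
    linarith
  have h1 : ∑ χ ∈ NE.erase (one1 G), (1 / (charDegree (χ : G → ℂ) : ℝ)) ^ 2 ≤ ((e : ℝ) - 1) * (1 / DN) ^ 2 := by
    have h2 : ∑ χ ∈ NE.erase (one1 G), (1 / (charDegree (χ : G → ℂ) : ℝ)) ^ 2 ≤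
        ∑ _χ ∈ NE.erase (one1 G), (1 / (DN : ℝ)) ^ 2 := by
      refine Finset.sum_le_sum fun χ hχ => ?_
      have h3 : (DN : ℝ) ≤ charDegree (χ : G → ℂ) := by
        exact_mod_cast hN χ (coe_ne_one (Finset.ne_of_mem_erase hχ)) (h.ne_deg χ (Finset.mem_of_mem_erase hχ))
      gcongr
    rw [Finset.sum_const, Finset.card_erase_of_mem h.one_mem, h.cardNE, nsmul_eq_mul, Nat.cast_sub he1,
      Nat.cast_one] at h2
    exact h2
  have h2 : ∑ Θ ∈ X, (((p : ℝ) - e) / (t * charDegree (Θ : G → ℂ))) ^ 2 ≤ t * (((p : ℝ) - e) / (t * DX)) ^ 2 := by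
    have h3 : ∑ Θ ∈ X, (((p : ℝ) - e) / (t * charDegree (Θ : G → ℂ))) ^ 2 ≤
        ∑ _Θ ∈ X, (((p : ℝ) - e) / (t * DX)) ^ 2 := by
      refine Finset.sum_le_sum fun Θ hΘ => ?_
      have h4 : (DX : ℝ) ≤ charDegree (Θ : G → ℂ) := by
        refine Nat.cast_le.2 (hX Θ (coe_ne_one ?_) (h.x_deg Θ hΘ))
        rintro rfl
        exact Finset.disjoint_left.1 h.disj h.one_mem hΘ
      gcongr
    rw [Finset.sum_const, h.cardX, nsmul_eq_mul] at h3
    exact h3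
  have h3 : (((c - 1) * ((e - 1) * t * DX ^ 2 + (p - e) ^ 2 * DN ^ 2) : ℕ) : ℝ) < ((t * DN ^ 2 * DX ^ 2 : ℕ) : ℝ) := by
    exact_mod_cast hnum
  rw [Nat.cast_mul, Nat.cast_sub (hc1.trans hc)] at h3
  push_cast [Nat.cast_sub he1, Nat.cast_sub hep] at h3
  have h4 : (Nat.card (centralizer ({g} : Set G)) : ℝ) ≤ c := by exact_mod_cast hc
  have h5 : (1 : ℝ) ≤ (Nat.card (centralizer ({g} : Set G)) : ℝ) := by exact_mod_cast hc1
  have h6 : (((e : ℝ) - 1) * (1 / DN) ^ 2 + t * (((p : ℝ) - e) / (t * DX)) ^ 2) * ((c : ℝ) - 1) < 1 := by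
    have h7 : (((e : ℝ) - 1) * (1 / DN) ^ 2 + t * (((p : ℝ) - e) / (t * DX)) ^ 2) * ((c : ℝ) - 1) =
        (((c : ℝ) - 1) * (((e : ℝ) - 1) * t * DX ^ 2 + ((p : ℝ) - e) ^ 2 * DN ^ 2)) / (t * DN ^ 2 * DX ^ 2) := by
      field_simp
    rw [h7, div_lt_one (by positivity)]
    exact h3
  refine lt_of_le_of_lt ?_ h6
  have h8 : (0 : ℝ) ≤ ((e : ℝ) - 1) * (1 / DN) ^ 2 + t * (((p : ℝ) - e) / (t * DX)) ^ 2 := by
    have : (1 : ℝ) ≤ e := by exact_mod_cast he1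
    have : (0 : ℝ) ≤ (e : ℝ) - 1 := by linarith
    positivity
  calc _ ≤ (((e : ℝ) - 1) * (1 / DN) ^ 2 + t * (((p : ℝ) - e) / (t * DX)) ^ 2) *
        ((Nat.card (centralizer ({g} : Set G)) : ℝ) - 1) := by
        apply mul_le_mul_of_nonneg_right (add_le_add h1 h2) (by linarith)
    _ ≤ _ := by
        apply mul_le_mul_of_nonneg_left (by linarith) h8

omit [Finite G] in
theorem card_centralizer_pow_le [Finite G] (g : G) (k : ℕ) :
    Nat.card (centralizer ({g} : Set G)) ≤ Nat.card (centralizer ({g ^ k} : Set G)) := by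
  apply Subgroup.card_le_of_le
  intro y hy
  rw [mem_centralizer_singleton_iff] at hy ⊢
  exact (Commute.pow_right (show Commute y g from hy) k).eq

/-- **T1, split form, all `g`.** -/
theorem prd_all [IsSimpleGroup G] (hG : ¬ IsMulCommutative G) {p : ℕ} (hp : p.Prime) {N : ℕ}
    (hN : Nat.card G = N) {x : G} (hx : orderOf x = p) (hcx : Nat.card (centralizer ({x} : Set G)) = p)
    (e t S : ℕ) (hchk : chkSC N p e t S = true) {DN DX c : ℕ}
    (hDN : ∀ χ : IrrCharacter G, (χ : G → ℂ) ≠ 1 →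
      (charDegree (χ : G → ℂ) % p = 1 ∨ charDegree (χ : G → ℂ) % p = p - 1) → DN ≤ charDegree (χ : G → ℂ))
    (hDX : ∀ χ : IrrCharacter G, (χ : G → ℂ) ≠ 1 →
      (charDegree (χ : G → ℂ) % p = e ∨ charDegree (χ : G → ℂ) % p = p - e) → DX ≤ charDegree (χ : G → ℂ))
    (hnum : (c - 1) * ((e - 1) * t * DX ^ 2 + (p - e) ^ 2 * DN ^ 2) < t * DN ^ 2 * DX ^ 2)
    (hnum' : (S - 1) * (p - 1) < (min DN DX) ^ 2)
    {y : G} (hy : orderOf y = p) {g : G} (hc : Nat.card (centralizer ({g} : Set G)) ≤ c) : Prd x y g := by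
  classical
  obtain ⟨NE, X, h⟩ := exists_dat hG hp hN hx hcx e t S hchk
  by_cases hg : p ∣ orderOf g
  · have hsc := sc_of hG hp hN hx hcx e t S hchk
    refine hsc.prd_val hsc hx hy (B := S) (d := min DN DX) (c := p) (by rw [pow_two]) ?_ ?_ hnum'
    · intro χ hχ h1 _
      by_cases hχN : χ ∈ NE
      · exact (min_le_left _ _).trans (hDN χ hχ (h.ne_deg χ hχN))
      by_cases hχX : χ ∈ X
      · exact (min_le_right _ _).trans (hDX χ hχ (h.x_deg χ hχX))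
      · exact absurd (h.off χ hχN hχX x hx) h1
    · obtain ⟨k, hk⟩ := hg
      have hgk : orderOf (g ^ k) = p := by
        rw [orderOf_pow' g (by
          rintro rfl
          rw [mul_zero] at hk
          exact (orderOf_pos g).ne' hk), hk]
        have hk0 : 0 < k := by
          rcases Nat.eq_zero_or_pos k with h0 | h0
          · rw [h0, mul_zero] at hk
            exact absurd hk (orderOf_pos g).ne'
          · exact h0
        rw [Nat.gcd_eq_right (dvd_mul_left k p), Nat.mul_div_cancel _ hk0]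
      have : Fact p.Prime := ⟨hp⟩
      obtain ⟨-, -, -, -, P, hP, hC, -, hconj⟩ := setup hG hp hN hx hcx e t S hchk
      have hcgk : Nat.card (centralizer ({g ^ k} : Set G)) = p := by
        obtain ⟨z, hzP, hz1, hyz⟩ := hconj (g ^ k) hgk
        have h2 : centralizer ({z} : Set G) = (P : Subgroup G) := by
          rw [← hC, show centralizer (P : Set G) = centralizer ((P : Subgroup G) : Set G) from rfl,
            ← zpowers_eq (P := (P : Subgroup G)) hP hzP hz1, SmallSimple.SelfCentPrime.centralizer_zpowers]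
        rw [← Blocks.SylowIn.card_centralizer_of_isConj hyz, h2]
        exact hP
      rw [← hcgk]
      exact card_centralizer_pow_le g k
  · exact h.prd hp hx hy hg hDN hDX hc hnum

/-- **T1, split form, commutators.** -/
theorem comm_all [IsSimpleGroup G] (hG : ¬ IsMulCommutative G) {p : ℕ} (hp : p.Prime) {N : ℕ}
    (hN : Nat.card G = N) {x : G} (hx : orderOf x = p) (hcx : Nat.card (centralizer ({x} : Set G)) = p)
    (e t S : ℕ) (hchk : chkSC N p e t S = true) {DN DX c : ℕ}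
    (hDN : ∀ χ : IrrCharacter G, (χ : G → ℂ) ≠ 1 →
      (charDegree (χ : G → ℂ) % p = 1 ∨ charDegree (χ : G → ℂ) % p = p - 1) → DN ≤ charDegree (χ : G → ℂ))
    (hDX : ∀ χ : IrrCharacter G, (χ : G → ℂ) ≠ 1 →
      (charDegree (χ : G → ℂ) % p = e ∨ charDegree (χ : G → ℂ) % p = p - e) → DX ≤ charDegree (χ : G → ℂ))
    (hnum : (c - 1) * ((e - 1) * t * DX ^ 2 + (p - e) ^ 2 * DN ^ 2) < t * DN ^ 2 * DX ^ 2)
    (hnum' : (S - 1) * (p - 1) < (min DN DX) ^ 2)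
    {g : G} (hc : Nat.card (centralizer ({g} : Set G)) ≤ c) : ∃ a b : G, g = a * b * a⁻¹ * b⁻¹ :=
  (prd_all hG hp hN hx hcx e t S hchk hDN hDX hnum hnum' (by rw [orderOf_inv, hx]) hc).comm

end Cfsg.Agent.H65.Ore
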