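import Cfsg.Agent.H65.Ore.SFour
import Cfsg.Agent.SmallSimple.PrimeLocal
import Cfsg.Agent.SmallSimple.SelfCentPrime
import Cfsg.Agent.Blocks.Knorr

/-!
# T1: the class product sieve with a self-centralizing exact prime (S2443)

* `SC G p S` : for every `x` of order `p`: `∑_χ ‖χ x‖⁴ ≤ S` and `χ x ≠ 0 → ¬ p ∣ χ(1)`;
* `sc_of` : `SC G p S` from `|G| = N`, an element of order `p` with `|C(x)| = p` and a numerical check
  (`e = |N(⟨x⟩) : ⟨x⟩|`, `S = e + (p * enr p e - e⁴) / e`);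
* `SC.prd` : `x`, `y` of order `p`, all nontrivial degrees prime to `p` are `≥ d`, `|C(g)| ≤ c`, `(S - 1)(c - 1) < d²`:
  `g` is a product of a conjugate of `x` and a conjugate of `y`; `SC.comm` : `g` is a commutator;
* `SC.prd_two` : two primes.
-/

set_option autoImplicit false

namespace Cfsg.Agent.H65.Ore

open Cfsg Cfsg.Agent.Characters Subgroup
open Cfsg.Agent.SmallSimple.PrimeLocal
open scoped ComplexConjugate

universe u

variable {G : Type u} [Group G]

/-- Self-centralizing exact prime with fourth moment at most `S`. -/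
structure SC (G : Type u) [Group G] (p S : ℕ) : Prop where
  four : ∀ [Fintype (IrrCharacter G)] (x : G), orderOf x = p → ∑ χ : IrrCharacter G, ‖(χ : G → ℂ) x‖ ^ 4 ≤ (S : ℝ)
  ndvd : ∀ x : G, orderOf x = p → ∀ χ : IrrCharacter G, (χ : G → ℂ) x ≠ 0 → ¬ p ∣ charDegree (χ : G → ℂ)

/-- the numerical check -/
def chkSC (N p e t S : ℕ) : Bool :=
  !Nat.beq p 2 && Nat.beq (N % p) 0 && !Nat.beq (N % p ^ 2) 0 && Nat.beq (e * t) (p - 1) &&
    Nat.ble (e ^ 2 + p * enr p e) (e * S + e ^ 4) &&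
    (List.range p).all fun e' => Nat.beq e' e || !Nat.beq ((p - 1) % e') 0 || !Nat.beq (N % (p * e')) 0 ||
      !Nat.beq (N / (p * e') % p) 1

variable [Finite G]

omit [Finite G] in
theorem charDegree_ne_zero {χ : G → ℂ} (hχ : IsIrrCharacter G χ) : charDegree χ ≠ 0 :=
  Cfsg.Agent.Blocks.Knorr.charDegree_ne_zero hχ

omit [Finite G] in
theorem cast_deg (χ : IrrCharacter G) : (χ : G → ℂ) 1 = (charDegree (χ : G → ℂ) : ℂ) :=
  Cfsg.Agent.Blocks.Knorr.charDegree_eq χ.2

/-- the values of a self-centralizing prime -/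
theorem value_ne_zero {p : ℕ} [hp : Fact p.Prime] (hp2 : p ≠ 2) (P : Sylow p G) (hP : Nat.card P = p)
    (hC : centralizer (P : Set G) = (P : Subgroup G)) {e t : ℕ}
    (he : (centralizer (P : Set G)).relIndex (normalizer (P : Set G)) = e) (ht : e * t = p - 1) {x : G}
    (hx : x ∈ P) (hx1 : x ≠ 1) {χ : IrrCharacter G} (h0 : (χ : G → ℂ) x ≠ 0) : ¬ p ∣ charDegree (χ : G → ℂ) := by
  classical
  obtain ⟨NE, X, ε, d, S, hdis, hNE, hX, hε, hd, -, hv, hvX, hXd, -, hz⟩ :=
    SmallSimple.TheoremBCor.theoremB_selfCent p hp2 P hP hC e t he ht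
  intro hdvd
  obtain ⟨k, hk⟩ := hdvd
  have h1 := cast_deg χ
  rw [hk] at h1
  have hpn : ∀ {a m : ℤ}, ((p * k : ℕ) : ℂ) = (a + p * m : ℤ) → (p : ℤ) ∣ a := by
    intro a m h
    have h2 : ((p * k : ℕ) : ℤ) = a + p * m := by exact_mod_cast h
    refine ⟨k - m, ?_⟩
    push_cast at h2
    linarith
  by_cases hχ : χ ∈ NE
  · obtain ⟨m, hm⟩ := SmallSimple.TheoremBCor.degree_nonexc (P := (P : Subgroup G)) hP
      (Core.isIrr_isCharacter χ.2) (ε := ε χ) (fun y hy hy1 => hv χ hχ y hy hy1)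
    rw [h1] at hm
    have h3 := hpn (a := ε χ) (m := (m : ℤ) - ε χ) (by push_cast; exact_mod_cast hm)
    have h4 : (p : ℤ) ∣ 1 := by
      rcases hε χ hχ with h | h
      · rwa [h] at h3
      · rw [h] at h3; exact (Int.dvd_neg.1 h3)
    have h5 : p ∣ 1 := by exact_mod_cast h4
    exact hp.out.one_lt.ne' (Nat.dvd_one.1 h5)
  by_cases hχ' : χ ∈ X
  · obtain ⟨hSc, hS1, hSv⟩ := hvX χ hχ'
    obtain ⟨m, hm⟩ := SmallSimple.TheoremBCor.degree_exc (P := (P : Subgroup G)) hP
      (Core.isIrr_isCharacter χ.2) (d := d) (S := S χ) hS1 hSv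
    rw [h1, hSc] at hm
    have h3 := hpn (a := d * e) (m := m) (by push_cast; exact_mod_cast hm)
    have h4 : (p : ℤ) ∣ (e : ℤ) := by
      rcases hd with h | h
      · rwa [h, one_mul] at h3
      · rw [h, neg_one_mul] at h3; exact (Int.dvd_neg.1 h3)
    have h5 : p ∣ e := by exact_mod_cast h4
    have he0 : e ≠ 0 := by
      rintro rfl
      have := hp.out.two_le
      omega
    have h6 := Nat.le_of_dvd (Nat.pos_of_ne_zero he0) h5
    have h7 : e ≤ p - 1 := Nat.le_of_dvd (by have := hp.out.two_le; omega) ⟨t, ht.symm⟩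
    have := hp.out.two_le
    omega
  · exact h0 ((hz χ hχ hχ').1 x hx hx1)

/-- The Sylow subgroup. -/
theorem setup [IsSimpleGroup G] (hG : ¬ IsMulCommutative G) {p : ℕ} (hp : p.Prime) {N : ℕ}
    (hN : Nat.card G = N) {x : G} (hx : orderOf x = p) (hc : Nat.card (centralizer ({x} : Set G)) = p)
    (e t S : ℕ) (hnum : chkSC N p e t S = true) :
    p ≠ 2 ∧ e * t = p - 1 ∧ e ^ 2 + p * enr p e ≤ e * S + e ^ 4 ∧ 0 < e ∧ ∃ P : Sylow p G, Nat.card P = p ∧
      centralizer (P : Set G) = (P : Subgroup G) ∧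
      (centralizer (P : Set G)).relIndex (normalizer (P : Set G)) = e ∧
      ∀ y : G, orderOf y = p → ∃ z ∈ P, z ≠ 1 ∧ IsConj y z := by
  classical
  have : Fact p.Prime := ⟨hp⟩
  simp only [chkSC, Bool.and_eq_true, Bool.not_eq_true', ← Bool.not_eq_true, Nat.beq_eq] at hnum
  obtain ⟨⟨⟨⟨⟨hp2, hN0⟩, hN1⟩, ht⟩, hS⟩, huniq⟩ := hnum
  have hS := Nat.le_of_ble_eq_true hS
  have h1 : p ∣ Nat.card G := by rw [hN]; exact Nat.dvd_of_mod_eq_zero hN0
  have h2 : ¬ p ^ 2 ∣ Nat.card G := by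
    rw [hN]; exact fun h => hN1 (Nat.mod_eq_zero_of_dvd h)
  -- the Sylow subgroup
  have hpg : IsPGroup p (zpowers x) := IsPGroup.of_card (n := 1) (by rw [Nat.card_zpowers, hx, pow_one])
  obtain ⟨P, hxP⟩ := hpg.exists_le_sylow
  have hP : Nat.card P = p := card_of_not_sq_dvd h1 h2 P
  have hPx : (P : Subgroup G) = zpowers x := by
    have h3 : Nat.card (zpowers x) = Nat.card (P : Subgroup G) := by rw [Nat.card_zpowers, hx]; exact hP.symm
    exact (Subgroup.eq_of_le_of_card_ge hxP h3.ge).symm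
  obtain ⟨e', K, hL⟩ := exists_local hG h1 h2 P
  have hCx : centralizer ((P : Subgroup G) : Set G) = centralizer ({x} : Set G) := by
    rw [hPx, SmallSimple.SelfCentPrime.centralizer_zpowers]
  have hCP : Nat.card (centralizer ((P : Subgroup G) : Set G)) = p := by rw [hCx, hc]
  have hKk : Nat.card K = 1 := by
    have h3 : p * Nat.card K = p * 1 := by rw [← hL.card_centralizer, mul_one]; exact hCP
    exact Nat.eq_of_mul_eq_mul_left hp.pos h3
  have hN' : Nat.card (normalizer ((P : Subgroup G) : Set G)) = p * e' := by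
    have := hL.card_normalizer
    rw [hKk, mul_one] at this
    exact this
  have hrel : (centralizer ((P : Subgroup G) : Set G)).relIndex (normalizer ((P : Subgroup G) : Set G)) = e' := by
    have hle : centralizer ((P : Subgroup G) : Set G) ≤ normalizer ((P : Subgroup G) : Set G) :=
      centralizer_le_normalizer _
    have h3 := Subgroup.index_mul_card ((centralizer ((P : Subgroup G) : Set G)).subgroupOf
      (normalizer ((P : Subgroup G) : Set G)))
    rw [Nat.card_congr (Subgroup.subgroupOfEquivOfLe hle).toEquiv, hCP, hN'] at h3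
    apply Nat.eq_of_mul_eq_mul_right hp.pos
    rw [Subgroup.relIndex, h3]; ring
  have hee : e' = e := by
    by_contra hne
    have hlt : e' < p := by
      have := Nat.le_of_dvd (by have := hp.two_le; omega) hL.dvd_pred
      have := hp.two_le
      omega
    have h3 := List.all_eq_true.1 huniq e' (List.mem_range.2 hlt)
    have hce := hL.card_eq
    rw [hKk, mul_one, hN] at hce
    have hpos : 0 < p * e' := by
      have he1 := hL.one_lt
      exact Nat.mul_pos hp.pos (by omega)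
    have h4 : N % (p * e') = 0 := by rw [hce]; exact Nat.mul_mod_left _ _
    have h5 : N / (p * e') = Nat.card (Sylow p G) := by rw [hce]; exact Nat.mul_div_cancel _ hpos
    have h6 : Nat.card (Sylow p G) % p = 1 := by
      have h7 := card_sylow_modEq_one p G
      have h8 : Nat.card (Sylow p G) % p = 1 % p := h7
      rw [h8, Nat.mod_eq_of_lt hp.one_lt]
    have h7 : (p - 1) % e' = 0 := Nat.mod_eq_zero_of_dvd hL.dvd_pred
    simp only [Bool.or_eq_true, Bool.not_eq_true', ← Bool.not_eq_true, Nat.beq_eq] at h3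
    rcases h3 with ((h3 | h3) | h3) | h3
    · exact hne h3
    · exact h3 h7
    · exact h3 h4
    · rw [h5] at h3; exact h3 h6
  subst hee
  have he0 : 0 < e' := by have := hL.one_lt; omega
  have hC : centralizer (P : Set G) = (P : Subgroup G) := by
    rw [show centralizer (P : Set G) = centralizer ((P : Subgroup G) : Set G) from rfl]
    symm
    apply Subgroup.eq_of_le_of_card_ge
    · rw [hPx, SmallSimple.SelfCentPrime.centralizer_zpowers, zpowers_le, mem_centralizer_iff]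
      rintro y rfl
      rfl
    · rw [hCP]
      exact hP.ge
  -- every element of order `p` is conjugate into `P`
  have hconj : ∀ y : G, orderOf y = p → ∃ z ∈ P, z ≠ 1 ∧ IsConj y z := by
    intro y hy
    have hpg' : IsPGroup p (zpowers y) := IsPGroup.of_card (n := 1) (by rw [Nat.card_zpowers, hy, pow_one])
    obtain ⟨Q, hyQ⟩ := hpg'.exists_le_sylow
    obtain ⟨g, hg⟩ := MulAction.exists_smul_eq G Q P
    refine ⟨g * y * g⁻¹, ?_, ?_, isConj_iff.2 ⟨g, rfl⟩⟩
    · rw [← hg]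
      have := Subgroup.smul_mem_pointwise_smul y (MulAut.conj g) (Q : Subgroup G) (hyQ (mem_zpowers y))
      exact this
    · intro h
      have h3 : y = 1 := by
        have : g⁻¹ * (g * y * g⁻¹) * g = y := by group
        rw [h] at this
        rw [← this]; group
      rw [h3, orderOf_one] at hy
      exact hp.one_lt.ne hy
  exact ⟨hp2, ht, hS, he0, P, hP, hC, hrel, hconj⟩

/-- **The constructor.** -/
theorem sc_of [IsSimpleGroup G] (hG : ¬ IsMulCommutative G) {p : ℕ} (hp : p.Prime) {N : ℕ}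
    (hN : Nat.card G = N) {x : G} (hx : orderOf x = p) (hc : Nat.card (centralizer ({x} : Set G)) = p)
    (e t S : ℕ) (hnum : chkSC N p e t S = true) : SC G p S := by
  classical
  have : Fact p.Prime := ⟨hp⟩
  obtain ⟨hp2, ht, hS, he0, P, hP, hC, hrel, hconj⟩ := setup hG hp hN hx hc e t S hnum
  refine ⟨fun {_} y hy => ?_, fun y hy χ h0 => ?_⟩
  · obtain ⟨z, hz, hz1, hyz⟩ := hconj y hy
    have h3 : ∀ χ : IrrCharacter G, (χ : G → ℂ) y = (χ : G → ℂ) z := by
      intro χ
      obtain ⟨g, rfl⟩ := isConj_iff.1 hyz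
      exact (Core.isIrr_isClassFunction χ.2 y g).symm
    simp only [h3]
    have h4 := sum_four_pow hp2 P hP hC hrel ht hz hz1
    have h5 : ((e ^ 2 + p * enr p e : ℕ) : ℝ) ≤ ((e * S + e ^ 4 : ℕ) : ℝ) := by exact_mod_cast hS
    push_cast at h5
    have h6 : (0 : ℝ) < e := by exact_mod_cast he0
    have h7 : (e : ℝ) * ∑ χ : IrrCharacter G, ‖(χ : G → ℂ) z‖ ^ 4 ≤ (e : ℝ) * S := by linarith
    exact le_of_mul_le_mul_left h7 h6
  · obtain ⟨z, hz, hz1, hyz⟩ := hconj y hy
    apply value_ne_zero hp2 P hP hC hrel ht hz hz1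
    obtain ⟨g, rfl⟩ := isConj_iff.1 hyz
    rw [Core.isIrr_isClassFunction χ.2 y g]
    exact h0

omit [Finite G] in
/-- Cauchy-Schwarz for the products of the squares. -/
theorem sum_mul_le [Fintype (IrrCharacter G)] {x y : G} {S T : ℝ} {B : ℝ} (hB : 0 ≤ B)
    (hx : ∑ χ : IrrCharacter G, ‖(χ : G → ℂ) x‖ ^ 4 ≤ S) (hy : ∑ χ : IrrCharacter G, ‖(χ : G → ℂ) y‖ ^ 4 ≤ T)
    (hST : S * T ≤ B ^ 2) : ∑ χ : IrrCharacter G, (‖(χ : G → ℂ) x‖ * ‖(χ : G → ℂ) y‖) ^ 2 ≤ B := by
  have h1 := Finset.sum_mul_sq_le_sq_mul_sq Finset.univ (fun χ : IrrCharacter G => ‖(χ : G → ℂ) x‖ ^ 2)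
    (fun χ : IrrCharacter G => ‖(χ : G → ℂ) y‖ ^ 2)
  simp only [← mul_pow, ← pow_mul] at h1
  norm_num at h1
  have h2 : (0 : ℝ) ≤ ∑ χ : IrrCharacter G, ‖(χ : G → ℂ) y‖ ^ 4 := Finset.sum_nonneg fun _ _ => by positivity
  have h3 : (0 : ℝ) ≤ S := (Finset.sum_nonneg fun _ _ => by positivity).trans hx
  have h4 := (h1.trans (mul_le_mul hx hy h2 h3)).trans hST
  exact abs_le_of_sq_le_sq' h4 hB |>.2

/-- The sieve with a bound for the degrees of the characters that do not vanish at `x` and `y`. -/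
theorem SC.prd_val {p q S T : ℕ} (h : SC G p S) (h' : SC G q T) {x y : G} (hx : orderOf x = p) (hy : orderOf y = q)
    {B d c : ℕ} (hST : S * T ≤ B ^ 2)
    (hd : ∀ χ : IrrCharacter G, (χ : G → ℂ) ≠ 1 → (χ : G → ℂ) x ≠ 0 → (χ : G → ℂ) y ≠ 0 →
      d ≤ charDegree (χ : G → ℂ))
    {g : G} (hc : Nat.card (centralizer ({g} : Set G)) ≤ c) (hnum : (B - 1) * (c - 1) < d ^ 2) : Prd x y g := by
  classical
  have : Finite (IrrCharacter G) := Core.finite_irr
  have := Fintype.ofFinite (IrrCharacter G)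
  have hd0 : 0 < d := by
    rcases Nat.eq_zero_or_pos d with h0 | h0
    · rw [h0] at hnum; omega
    · exact h0
  have hsum := sum_mul_le (x := x) (y := y) (B := (B : ℝ)) (by positivity) (h.four x hx) (h'.four y hy)
    (by exact_mod_cast hST)
  have hB1 : 1 ≤ B := by
    by_contra h0
    have h1 : B = 0 := by omega
    rw [h1, Nat.cast_zero] at hsum
    have h2 := Finset.single_le_sum (f := fun χ : IrrCharacter G => (‖(χ : G → ℂ) x‖ * ‖(χ : G → ℂ) y‖) ^ 2)
      (fun _ _ => by positivity) (Finset.mem_univ (one1 G))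
    simp only [one1_apply, norm_one, mul_one, one_pow] at h2
    linarith
  have hc1 : 1 ≤ Nat.card (centralizer ({g} : Set G)) := Nat.card_pos
  refine prd_of_sieve (d := (d : ℝ)) (by exact_mod_cast hd0) ?_ ?_
  · intro χ hχ h1 h2
    rw [cast_deg, Complex.norm_natCast]
    exact_mod_cast hd χ hχ h1 h2
  · have h3 : (((B - 1) * (c - 1) : ℕ) : ℝ) < ((d ^ 2 : ℕ) : ℝ) := by exact_mod_cast hnum
    rw [Nat.cast_mul, Nat.cast_sub hB1, Nat.cast_sub (hc1.trans hc)] at h3
    push_cast at h3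
    refine lt_of_le_of_lt ?_ h3
    have h4 : (Nat.card (centralizer ({g} : Set G)) : ℝ) ≤ c := by exact_mod_cast hc
    have h5 : (1 : ℝ) ≤ (Nat.card (centralizer ({g} : Set G)) : ℝ) := by exact_mod_cast hc1
    have h6 : (1 : ℝ) ≤ (B : ℝ) := by exact_mod_cast hB1
    calc _ ≤ ((B : ℝ) - 1) * ((Nat.card (centralizer ({g} : Set G)) : ℝ) - 1) := by
          apply mul_le_mul_of_nonneg_right _ (by linarith)
          linarith
      _ ≤ ((B : ℝ) - 1) * ((c : ℝ) - 1) := by
          apply mul_le_mul_of_nonneg_left _ (by linarith)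
          linarith

/-- **The sieve, general form**: `d` bounds the nontrivial degrees prime to `p` and `q`. -/
theorem SC.prd_two {p q S T : ℕ} (h : SC G p S) (h' : SC G q T) {x y : G} (hx : orderOf x = p) (hy : orderOf y = q)
    {B d c : ℕ} (hST : S * T ≤ B ^ 2)
    (hd : ∀ χ : IrrCharacter G, (χ : G → ℂ) ≠ 1 → ¬ p ∣ charDegree (χ : G → ℂ) → ¬ q ∣ charDegree (χ : G → ℂ) →
      d ≤ charDegree (χ : G → ℂ))
    {g : G} (hc : Nat.card (centralizer ({g} : Set G)) ≤ c) (hnum : (B - 1) * (c - 1) < d ^ 2) : Prd x y g :=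
  h.prd_val h' hx hy hST (fun χ hχ h1 h2 => hd χ hχ (h.ndvd x hx χ h1) (h'.ndvd y hy χ h2)) hc hnum

/-- **T1.** -/
theorem SC.prd {p S : ℕ} (h : SC G p S) {x y : G} (hx : orderOf x = p) (hy : orderOf y = p) {d c : ℕ}
    (hd : ∀ χ : IrrCharacter G, (χ : G → ℂ) ≠ 1 → ¬ p ∣ charDegree (χ : G → ℂ) → d ≤ charDegree (χ : G → ℂ))
    {g : G} (hc : Nat.card (centralizer ({g} : Set G)) ≤ c) (hnum : (S - 1) * (c - 1) < d ^ 2) : Prd x y g :=
  h.prd_two h hx hy (by rw [pow_two]) (fun χ h1 h2 _ => hd χ h1 h2) hc hnum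

/-- **T1 for commutators.** -/
theorem SC.comm {p S : ℕ} (h : SC G p S) {x : G} (hx : orderOf x = p) {d c : ℕ}
    (hd : ∀ χ : IrrCharacter G, (χ : G → ℂ) ≠ 1 → ¬ p ∣ charDegree (χ : G → ℂ) → d ≤ charDegree (χ : G → ℂ))
    {g : G} (hc : Nat.card (centralizer ({g} : Set G)) ≤ c) (hnum : (S - 1) * (c - 1) < d ^ 2) :
    ∃ a b : G, g = a * b * a⁻¹ * b⁻¹ :=
  (h.prd hx (by rw [orderOf_inv, hx]) hd hc hnum).comm

end Cfsg.Agent.H65.Ore
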