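import Cfsg.Agent.H686.CharKit
import Cfsg.Agent.Characters.ClassMul

/-!
# Products of two classes: the second-moment sieve (T1 of the Ore plan, S2443)

* `Prd x y g` : `g` is a product of a conjugate of `x` and a conjugate of `y`; `Prd.comm` : `Prd x x⁻¹ g` gives a commutator;
* `prd_of_sum_lt` : `∑ ‖χ x‖ ‖χ y‖ ‖χ g‖ / χ(1) < 2` gives `Prd x y g` (the sum contains the trivial character);
* `prd_of_weighted` : `(∑ (‖χ x‖ ‖χ y‖ / χ(1))² - 1) (|C(g)| - 1) < 1` gives `Prd x y g`;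
* `prd_of_sieve` : `d ≤ χ(1)` for all `χ ≠ 1` with `χ x ≠ 0`, `χ y ≠ 0`, and `(∑ (‖χ x‖ ‖χ y‖)² - 1) (|C(g)| - 1) < d²`.
-/

set_option autoImplicit false

namespace Cfsg.Agent.H65.Ore

open Cfsg Cfsg.Agent.Characters
open scoped ComplexConjugate

universe u

variable {G : Type u} [Group G]

/-- `g` is a product of a conjugate of `x` and a conjugate of `y`. -/
def Prd (x y g : G) : Prop := ∃ a b : G, g = a * x * a⁻¹ * (b * y * b⁻¹)

theorem Prd.comm {x g : G} (h : Prd x x⁻¹ g) : ∃ a b : G, g = a * b * a⁻¹ * b⁻¹ := by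
  obtain ⟨a, b, rfl⟩ := h
  refine ⟨a * x * a⁻¹, b * a⁻¹, ?_⟩
  group

theorem Prd.conj {x y g : G} (h : Prd x y g) (c : G) : Prd x y (c * g * c⁻¹) := by
  obtain ⟨a, b, rfl⟩ := h
  exact ⟨c * a, c * b, by group⟩

theorem Prd.of_isConj {x y g g' : G} (h : Prd x y g) (hg : IsConj g g') : Prd x y g' := by
  obtain ⟨c, rfl⟩ := isConj_iff.1 hg
  exact h.conj c

theorem Prd.congr_left {x x' y g : G} (h : Prd x y g) (hx : IsConj x x') : Prd x' y g := by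
  obtain ⟨c, rfl⟩ := isConj_iff.1 hx
  obtain ⟨a, b, rfl⟩ := h
  exact ⟨a * c⁻¹, b, by group⟩

theorem Prd.congr_right {x y y' g : G} (h : Prd x y g) (hy : IsConj y y') : Prd x y' g := by
  obtain ⟨c, rfl⟩ := isConj_iff.1 hy
  obtain ⟨a, b, rfl⟩ := h
  exact ⟨a, b * c⁻¹, by group⟩

theorem Prd.swap {x y g : G} (h : Prd x y g) : Prd y x g := by
  obtain ⟨a, b, rfl⟩ := h
  exact ⟨a * x * a⁻¹ * b, a, by group⟩

variable [Finite G] [Fintype (IrrCharacter G)]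

/-- The trivial character. -/
def one1 (G : Type u) [Group G] : IrrCharacter G := ⟨1, Core.isIrr_one⟩

omit [Finite G] [Fintype (IrrCharacter G)] in
theorem one1_apply (g : G) : (one1 G : G → ℂ) g = 1 := rfl

omit [Finite G] [Fintype (IrrCharacter G)] in
theorem coe_ne_one {χ : IrrCharacter G} (h : χ ≠ one1 G) : (χ : G → ℂ) ≠ 1 := fun h1 => h (Subtype.ext h1)

theorem prd_of_ne_zero {x y g : G}
    (h : ∑ χ : IrrCharacter G, (χ : G → ℂ) x * (χ : G → ℂ) y * conj ((χ : G → ℂ) g) / (χ : G → ℂ) 1 ≠ 0) :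
    Prd x y g := by
  have h1 := ClassMul.card_conj_mul_conj x y g
  by_contra hno
  have h0 : Nat.card {p : G × G // p.1 * x * p.1⁻¹ * (p.2 * y * p.2⁻¹) = g} = 0 := by
    rw [Finite.card_eq_zero_iff]
    refine ⟨?_⟩
    rintro ⟨⟨a, b⟩, h3⟩
    exact hno ⟨a, b, h3.symm⟩
  rw [h0, Nat.cast_zero] at h1
  have hG : (Nat.card G : ℂ) ≠ 0 := by exact_mod_cast Nat.card_pos.ne'
  rcases mul_eq_zero.1 h1.symm with h2 | h2
  · exact hG h2
  · exact h h2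

/-- **First form.** -/
theorem prd_of_sum_lt {x y g : G}
    (h : ∑ χ : IrrCharacter G, ‖(χ : G → ℂ) x‖ * ‖(χ : G → ℂ) y‖ * ‖(χ : G → ℂ) g‖ / ‖(χ : G → ℂ) 1‖ < 2) :
    Prd x y g := by
  classical
  apply prd_of_ne_zero
  intro h0
  rw [← Finset.add_sum_erase Finset.univ _ (Finset.mem_univ (one1 G))] at h h0
  simp only [one1_apply, norm_one, mul_one, map_one, div_one] at h h0
  have h1 : ∑ χ ∈ Finset.univ.erase (one1 G),
      (χ : G → ℂ) x * (χ : G → ℂ) y * conj ((χ : G → ℂ) g) / (χ : G → ℂ) 1 = -1 := by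
    linear_combination h0
  have h2 := norm_sum_le (Finset.univ.erase (one1 G))
    (fun χ : IrrCharacter G => (χ : G → ℂ) x * (χ : G → ℂ) y * conj ((χ : G → ℂ) g) / (χ : G → ℂ) 1)
  rw [h1, norm_neg, norm_one] at h2
  have h3 : ∀ χ : IrrCharacter G, ‖(χ : G → ℂ) x * (χ : G → ℂ) y * conj ((χ : G → ℂ) g) / (χ : G → ℂ) 1‖ =
      ‖(χ : G → ℂ) x‖ * ‖(χ : G → ℂ) y‖ * ‖(χ : G → ℂ) g‖ / ‖(χ : G → ℂ) 1‖ := by
    intro χ
    rw [norm_div, norm_mul, norm_mul, Complex.norm_conj]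
  simp only [h3] at h2
  linarith

/-- The sum of the squares of the values of the nontrivial characters. -/
theorem sum_erase_sq [DecidableEq (IrrCharacter G)] (g : G) :
    ∑ χ ∈ Finset.univ.erase (one1 G), ‖(χ : G → ℂ) g‖ ^ 2 =
      (Nat.card (Subgroup.centralizer ({g} : Set G)) : ℝ) - 1 := by
  have h := H686.CharKit.sum_normSq g
  simp only [Complex.normSq_eq_norm_sq] at h
  rw [← Finset.add_sum_erase Finset.univ _ (Finset.mem_univ (one1 G))] at h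
  rw [one1_apply, norm_one] at h
  linarith

/-- **Second form** (Cauchy-Schwarz). -/
theorem prd_of_weighted {x y g : G}
    (h : (∑ χ : IrrCharacter G, (‖(χ : G → ℂ) x‖ * ‖(χ : G → ℂ) y‖ / ‖(χ : G → ℂ) 1‖) ^ 2 - 1) *
      ((Nat.card (Subgroup.centralizer ({g} : Set G)) : ℝ) - 1) < 1) : Prd x y g := by
  classical
  apply prd_of_sum_lt
  rw [← Finset.add_sum_erase Finset.univ _ (Finset.mem_univ (one1 G))] at h ⊢
  simp only [one1_apply, norm_one, mul_one, div_one, one_pow, add_sub_cancel_left] at h ⊢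
  have h1 := Finset.sum_mul_sq_le_sq_mul_sq (Finset.univ.erase (one1 G))
    (fun χ : IrrCharacter G => ‖(χ : G → ℂ) x‖ * ‖(χ : G → ℂ) y‖ / ‖(χ : G → ℂ) 1‖)
    (fun χ : IrrCharacter G => ‖(χ : G → ℂ) g‖)
  rw [sum_erase_sq] at h1
  have h2 : ∀ χ : IrrCharacter G, ‖(χ : G → ℂ) x‖ * ‖(χ : G → ℂ) y‖ / ‖(χ : G → ℂ) 1‖ * ‖(χ : G → ℂ) g‖ =
      ‖(χ : G → ℂ) x‖ * ‖(χ : G → ℂ) y‖ * ‖(χ : G → ℂ) g‖ / ‖(χ : G → ℂ) 1‖ := fun χ => by ring
  simp only [h2] at h1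
  have h3 := h1.trans_lt h
  have h4 : ∑ χ ∈ Finset.univ.erase (one1 G),
      ‖(χ : G → ℂ) x‖ * ‖(χ : G → ℂ) y‖ * ‖(χ : G → ℂ) g‖ / ‖(χ : G → ℂ) 1‖ < 1 := by
    by_contra h5
    push Not at h5
    have h6 := one_le_pow₀ h5 (n := 2)
    linarith
  linarith

/-- **Third form**: the sieve. -/
theorem prd_of_sieve {x y g : G} {d : ℝ} (hd0 : 0 < d)
    (hd : ∀ χ : IrrCharacter G, (χ : G → ℂ) ≠ 1 → (χ : G → ℂ) x ≠ 0 → (χ : G → ℂ) y ≠ 0 → d ≤ ‖(χ : G → ℂ) 1‖)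
    (h : (∑ χ : IrrCharacter G, (‖(χ : G → ℂ) x‖ * ‖(χ : G → ℂ) y‖) ^ 2 - 1) *
      ((Nat.card (Subgroup.centralizer ({g} : Set G)) : ℝ) - 1) < d ^ 2) : Prd x y g := by
  classical
  apply prd_of_weighted
  rw [← Finset.add_sum_erase Finset.univ _ (Finset.mem_univ (one1 G))] at h ⊢
  simp only [one1_apply, norm_one, mul_one, div_one, one_pow, add_sub_cancel_left] at h ⊢
  have hc : (0 : ℝ) ≤ (Nat.card (Subgroup.centralizer ({g} : Set G)) : ℝ) - 1 := by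
    have : 1 ≤ Nat.card (Subgroup.centralizer ({g} : Set G)) := Nat.card_pos
    have : (1 : ℝ) ≤ (Nat.card (Subgroup.centralizer ({g} : Set G)) : ℝ) := by exact_mod_cast this
    linarith
  have h1 : ∑ χ ∈ Finset.univ.erase (one1 G), (‖(χ : G → ℂ) x‖ * ‖(χ : G → ℂ) y‖ / ‖(χ : G → ℂ) 1‖) ^ 2 ≤
      (∑ χ ∈ Finset.univ.erase (one1 G), (‖(χ : G → ℂ) x‖ * ‖(χ : G → ℂ) y‖) ^ 2) / d ^ 2 := by
    rw [Finset.sum_div]
    refine Finset.sum_le_sum fun χ hχ => ?_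
    rw [div_pow]
    by_cases hx : (χ : G → ℂ) x = 0
    · rw [hx]; simp
    by_cases hy : (χ : G → ℂ) y = 0
    · rw [hy]; simp
    have h2 := hd χ (coe_ne_one (Finset.ne_of_mem_erase hχ)) hx hy
    gcongr
  calc _ ≤ (∑ χ ∈ Finset.univ.erase (one1 G), (‖(χ : G → ℂ) x‖ * ‖(χ : G → ℂ) y‖) ^ 2) / d ^ 2 *
        ((Nat.card (Subgroup.centralizer ({g} : Set G)) : ℝ) - 1) := mul_le_mul_of_nonneg_right h1 hc
    _ < 1 := by
      rw [div_mul_eq_mul_div, div_lt_one (by positivity)]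
      exact h

end Cfsg.Agent.H65.Ore
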