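import Cfsg.Agent.H65.Ore.Energy
import Cfsg.Agent.H65.Ore.Prd
import Cfsg.Agent.SmallSimple.TheoremBCor

/-!
# The fourth moment of a self-centralizing Sylow subgroup of prime order (T1 of the Ore plan)

`P` a Sylow subgroup of prime order `p` with `C(P) = P`, `e = |N(P) : P|`, `x ∈ P`, `x ≠ 1`:

* `sum_four_pow` : `e * ∑_χ ‖χ x‖⁴ = e² + p * enr p e - e⁴`;
* `value_ne_zero` : `χ x ≠ 0` implies `¬ p ∣ χ(1)`.
-/

set_option autoImplicit false
set_option linter.unusedSectionVars false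

namespace Cfsg.Agent.H65.Ore

open Cfsg Cfsg.Agent.Characters Subgroup
open scoped ComplexConjugate

universe u

variable {G : Type u} [Group G] [Finite G]

section Kappa

variable {p : ℕ} [hp : Fact p.Prime] {P : Subgroup G} {x : G}

theorem order_eq (hP : Nat.card P = p) (hx : x ∈ P) (hx1 : x ≠ 1) : orderOf x = p := by
  have h1 : orderOf (⟨x, hx⟩ : P) ∣ p := hP ▸ orderOf_dvd_natCard _
  rw [Subgroup.orderOf_mk] at h1
  rcases (Nat.dvd_prime hp.out).1 h1 with h | h
  · exact absurd (orderOf_eq_one_iff.1 h) hx1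
  · exact h

theorem zpowers_eq (hP : Nat.card P = p) (hx : x ∈ P) (hx1 : x ≠ 1) : zpowers x = P := by
  apply Subgroup.eq_of_le_of_card_ge (by rwa [zpowers_le])
  rw [Nat.card_zpowers, order_eq hP hx hx1, hP]

theorem exists_pow_eq (hP : Nat.card P = p) (hx : x ∈ P) (hx1 : x ≠ 1) {y : G} (hy : y ∈ P) :
    ∃ k : ZMod p, y = x ^ k.val := by
  have ho : orderOf x = p := order_eq hP hx hx1
  rw [← zpowers_eq hP hx hx1] at hy
  obtain ⟨k, hk⟩ := mem_zpowers_iff.1 hy
  refine ⟨(k : ZMod p), ?_⟩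
  rw [← hk, ← zpow_natCast, zpow_eq_zpow_iff_modEq, ho, ← ZMod.intCast_eq_intCast_iff]
  simp

theorem pow_val_eq (ho : orderOf x = p) {k : ZMod p} {n : ℕ} : x ^ k.val = x ^ n ↔ k = (n : ZMod p) := by
  rw [pow_eq_pow_iff_modEq, ho, ← ZMod.natCast_eq_natCast_iff, ZMod.natCast_val, ZMod.cast_id]

theorem pow_val_mul (ho : orderOf x = p) (a b : ZMod p) : x ^ (a * b).val = (x ^ a.val) ^ b.val := by
  rw [← pow_mul, pow_val_eq ho]
  push_cast
  simp

/-- the action of the normaliser -/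
theorem exists_kappa (hP : Nat.card P = p) (hx : x ∈ P) (hx1 : x ≠ 1) :
    ∃ κ : normalizer (P : Set G) →* ZMod p, ∀ n : normalizer (P : Set G),
      (n : G) * x * (n : G)⁻¹ = x ^ (κ n).val := by
  have ho := order_eq hP hx hx1
  have h1 : ∀ n : normalizer (P : Set G), ∃ k : ZMod p, (n : G) * x * (n : G)⁻¹ = x ^ k.val := fun n =>
    exists_pow_eq hP hx hx1 ((mem_normalizer_iff.1 n.2 x).1 hx)
  choose κ hκ using h1
  refine ⟨⟨⟨κ, ?_⟩, ?_⟩, hκ⟩
  · have h2 := hκ 1
    have h3 : x ^ (κ 1).val = x ^ 1 := by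
      rw [← h2]; simp
    rw [pow_val_eq ho] at h3
    rw [h3]; simp
  · intro m n
    show κ (m * n) = κ m * κ n
    have h2 := hκ (m * n)
    have h3 : x ^ (κ (m * n)).val = x ^ (κ m * κ n).val := by
      rw [pow_val_mul ho, ← h2, ← hκ m, conj_pow, ← hκ n, Subgroup.coe_mul]
      group
    rw [pow_val_eq ho] at h3
    rw [h3]; simp

/-- the elements of `H` are induced by elements of the normaliser -/
theorem norm_facts (hP : Nat.card P = p) (hx : x ∈ P) (hx1 : x ≠ 1) {e : ℕ}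
    (he : (centralizer (P : Set G)).relIndex (normalizer (P : Set G)) = e) :
    (∀ h ∈ HH p e, ∃ n : G, n * x * n⁻¹ = x ^ h.val) ∧ (HH p e).card = e := by
  classical
  obtain ⟨κ, hκ⟩ := exists_kappa hP hx hx1
  have ho := order_eq hP hx hx1
  have he0 : e ≠ 0 := by
    rw [← he]
    exact Subgroup.index_ne_zero_of_finite
  set κ' : normalizer (P : Set G) →* (ZMod p)ˣ := κ.toHomUnits with hκ'
  have hval : ∀ n, ((κ' n : (ZMod p)ˣ) : ZMod p) = κ n := fun n => rfl
  have hker : κ'.ker = (centralizer (P : Set G)).subgroupOf (normalizer (P : Set G)) := by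
    ext n
    rw [MonoidHom.mem_ker, mem_subgroupOf, Units.ext_iff, hval, Units.val_one]
    constructor
    · intro h1
      have h2 := hκ n
      rw [h1] at h2
      have h3 : x ^ (1 : ZMod p).val = x := by
        have := (pow_val_eq ho (k := (1 : ZMod p)) (n := 1)).2 (by simp)
        rw [this, pow_one]
      rw [h3, mul_inv_eq_iff_eq_mul] at h2
      rw [mem_centralizer_iff]
      intro y hy
      have hy' : y ∈ zpowers x := by
        rw [zpowers_eq hP hx hx1]
        exact hy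
      obtain ⟨k, rfl⟩ := mem_zpowers_iff.1 hy'
      exact ((Commute.symm h2 : Commute x (n : G)).zpow_left k).eq
    · intro h1
      have h2 := hκ n
      have h3 := (mem_centralizer_iff.1 h1) x hx
      rw [← h3, mul_inv_cancel_right] at h2
      have h4 : x ^ (κ n).val = x ^ 1 := by rw [← h2, pow_one]
      rw [pow_val_eq ho] at h4
      rw [h4]; simp
  have hcard : Nat.card κ'.range = e := by
    rw [← Subgroup.index_ker, hker]
    exact he
  -- the range is `{u | u ^ e = 1}`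
  have h5 : (Finset.univ.filter fun a : (ZMod p)ˣ => a ^ e = 1).card ≤ e :=
    IsCyclic.card_pow_eq_one_le (Nat.pos_of_ne_zero he0)
  have h6 : (Finset.univ.filter fun a : (ZMod p)ˣ => a ∈ κ'.range) ⊆
      (Finset.univ.filter fun a : (ZMod p)ˣ => a ^ e = 1) := by
    intro a ha
    rw [Finset.mem_filter] at ha
    rw [Finset.mem_filter]
    refine ⟨Finset.mem_univ _, ?_⟩
    have h7 : (⟨a, ha.2⟩ : κ'.range) ^ Nat.card κ'.range = 1 := pow_card_eq_one'
    rw [hcard] at h7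
    exact congrArg Subtype.val h7
  have h9 : (Finset.univ.filter fun a : (ZMod p)ˣ => a ∈ κ'.range).card = e := by
    rw [← hcard, Nat.card_eq_fintype_card, Fintype.card_subtype]
  have h10 := Finset.eq_of_subset_of_card_le h6 (by rw [h9]; exact h5)
  have hunit : ∀ h ∈ HH p e, ∃ u : (ZMod p)ˣ, (u : ZMod p) = h ∧ u ^ e = 1 := by
    intro h hh
    rw [mem_HH] at hh
    obtain ⟨u, rfl⟩ := IsUnit.of_pow_eq_one hh he0
    exact ⟨u, rfl, Units.ext (by rw [Units.val_pow_eq_pow_val, hh, Units.val_one])⟩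
  refine ⟨fun h hh => ?_, ?_⟩
  · obtain ⟨u, rfl, hu⟩ := hunit h hh
    have hmem : u ∈ (Finset.univ.filter fun a : (ZMod p)ˣ => a ∈ κ'.range) := by
      rw [h10, Finset.mem_filter]
      exact ⟨Finset.mem_univ _, hu⟩
    obtain ⟨n, rfl⟩ := (Finset.mem_filter.1 hmem).2
    exact ⟨n, hκ n⟩
  · have h11 : (HH p e) = (Finset.univ.filter fun a : (ZMod p)ˣ => a ^ e = 1).image Units.val := by
      ext h
      rw [Finset.mem_image]
      constructor
      · intro hh
        obtain ⟨u, hu1, hu2⟩ := hunit h hh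
        exact ⟨u, by simp [hu2], hu1⟩
      · rintro ⟨u, hu, rfl⟩
        rw [mem_HH, ← Units.val_pow_eq_pow_val, (Finset.mem_filter.1 hu).2, Units.val_one]
    rw [h11, Finset.card_image_of_injective _ Units.val_injective, ← h10, h9]

end Kappa

section Main

variable {p : ℕ} [hp : Fact p.Prime]

/-- a primitive additive character -/
theorem exists_psi : ∃ ψ : AddChar (ZMod p) ℂ, ψ.IsPrimitive ∧ ∀ z : ℂ, z ^ p = 1 → ∃ a : ZMod p, z = ψ a := by
  have hz := Complex.isPrimitiveRoot_exp p hp.out.ne_zero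
  refine ⟨AddChar.zmodChar p hz.pow_eq_one, AddChar.zmodChar_primitive_of_primitive_root p hz, fun z h => ?_⟩
  obtain ⟨i, hi, rfl⟩ := hz.eq_pow_of_pow_eq_one h
  refine ⟨(i : ZMod p), ?_⟩
  rw [AddChar.zmodChar_apply, ZMod.val_cast_of_lt hi]

theorem sum_four_pow [Fintype (IrrCharacter G)] (hp2 : p ≠ 2) (P : Sylow p G) (hP : Nat.card P = p)
    (hC : centralizer (P : Set G) = (P : Subgroup G)) {e t : ℕ}
    (he : (centralizer (P : Set G)).relIndex (normalizer (P : Set G)) = e) (ht : e * t = p - 1) {x : G}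
    (hx : x ∈ P) (hx1 : x ≠ 1) :
    (e : ℝ) * ∑ χ : IrrCharacter G, ‖(χ : G → ℂ) x‖ ^ 4 + (e : ℝ) ^ 4 = (e : ℝ) ^ 2 + p * (enr p e : ℝ) := by
  classical
  obtain ⟨NE, X, ε, d, S, hdis, hNE, hX, hε, hd, -, hv, hvX, hXd, -, hz⟩ :=
    SmallSimple.TheoremBCor.theoremB_selfCent p hp2 P hP hC e t he ht
  have ho : orderOf x = p := order_eq hP hx hx1
  have hxP : (⟨x, hx⟩ : (P : Subgroup G)) ≠ 1 := fun h => hx1 (congrArg Subtype.val h)
  obtain ⟨hnorm, hcard⟩ := norm_facts (P := (P : Subgroup G)) hP hx hx1 he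
  obtain ⟨ψ, hψ, hψr⟩ := exists_psi (p := p)
  have he0 : e ≠ 0 := by
    rintro rfl
    have := hp.out.two_le
    omega
  -- the exponents
  have h1 : ∀ l : (P : Subgroup G) →* ℂˣ, ∃ a : ZMod p, ((l ⟨x, hx⟩ : ℂˣ) : ℂ) = ψ a := by
    intro l
    apply hψr
    rw [← Units.val_pow_eq_pow_val, ← map_pow]
    have h3 : x ^ p = 1 := by
      have h4 := pow_orderOf_eq_one x
      rwa [ho] at h4
    have h2 : (⟨x, hx⟩ : (P : Subgroup G)) ^ p = 1 := Subtype.ext h3
    rw [h2, map_one, Units.val_one]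
  choose ex hex using h1
  have hexk : ∀ (l : (P : Subgroup G) →* ℂˣ) (k : ZMod p),
      ((l (⟨x, hx⟩ ^ k.val) : ℂˣ) : ℂ) = ψ (ex l * k) := by
    intro l k
    rw [map_pow, Units.val_pow_eq_pow_val, hex]
    have : ψ (ex l * k) = ψ (k.val • ex l) := by
      congr 1
      rw [nsmul_eq_mul, ZMod.natCast_zmod_val, mul_comm]
    rw [this, AddChar.map_nsmul_eq_pow]
  have hinj : Function.Injective ex := by
    intro l l' hll
    ext ⟨y, hy⟩
    obtain ⟨k, rfl⟩ := exists_pow_eq hP hx hx1 hy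
    have h2 := hexk l k
    have h3 := hexk l' k
    rw [hll, ← h3] at h2
    exact h2
  have hd1 : ‖(d : ℂ)‖ = 1 := by rcases hd with rfl | rfl <;> simp
  have hd0 : (d : ℂ) ≠ 0 := by rcases hd with rfl | rfl <;> simp
  set A : IrrCharacter G → Finset (ZMod p) := fun Θ => (S Θ).image ex with hA
  have hAc : ∀ Θ ∈ X, (A Θ).card = e := fun Θ hΘ => by
    rw [hA, Finset.card_image_of_injective _ hinj, (hvX Θ hΘ).1]
  have hA0 : ∀ Θ ∈ X, (0 : ZMod p) ∉ A Θ := by
    intro Θ hΘ h0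
    obtain ⟨l, hl, hl0⟩ := Finset.mem_image.1 h0
    apply (hvX Θ hΘ).2.1
    have h2 : ex 1 = 0 := by
      have h3 := hex 1
      rw [MonoidHom.one_apply, Units.val_one] at h3
      exact (hψ.zmod_char_eq_one_iff p _).1 h3.symm
    rw [← h2] at hl0
    rw [← hinj hl0]
    exact hl
  -- the values
  have hval : ∀ Θ ∈ X, ∀ k : ZMod p, k ≠ 0 → (Θ : G → ℂ) (x ^ k.val) = d * ∑ a ∈ A Θ, ψ (a * k) := by
    intro Θ hΘ k hk
    have h2 := (hvX Θ hΘ).2.2 (⟨x, hx⟩ ^ k.val) (fun h3 => hk (by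
      have h4 : x ^ k.val = x ^ 0 := by
        rw [pow_zero]
        exact congrArg Subtype.val h3
      rw [pow_val_eq ho] at h4
      simpa using h4))
    rw [Subgroup.coe_pow] at h2
    rw [h2, hA, Finset.sum_image fun a _ b _ h => hinj h]
    congr 1
    exact Finset.sum_congr rfl fun l _ => hexk l k
  -- stability
  have hstab : ∀ Θ ∈ X, ∀ h ∈ HH p e, ∀ a ∈ A Θ, a * h ∈ A Θ := by
    intro Θ hΘ h hh a ha
    have hh0 : h ≠ 0 := by
      rintro rfl
      rw [mem_HH, zero_pow he0] at hh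
      exact zero_ne_one hh
    have h2 : (A Θ).image (fun a => a * h) = A Θ := by
      apply eq_of_sums hψ
      intro k
      rw [Finset.sum_image fun a _ b _ hab => mul_right_cancel₀ hh0 hab]
      by_cases hk : k = 0
      · subst hk
        simp
      · apply mul_left_cancel₀ hd0
        have h3 := hval Θ hΘ (h * k) (mul_ne_zero hh0 hk)
        obtain ⟨n, hn⟩ := hnorm h hh
        rw [pow_val_mul ho, ← hn, conj_pow, Core.isIrr_isClassFunction Θ.2 (x ^ k.val) n, hval Θ hΘ k hk] at h3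
        rw [h3]
        congr 1
        refine Finset.sum_congr rfl fun a _ => ?_
        rw [mul_assoc]
    rw [← h2]
    exact Finset.mem_image_of_mem _ ha
  have hcos : ∀ Θ ∈ X, ∀ a ∈ A Θ, (HH p e).image (fun h => a * h) = A Θ := by
    intro Θ hΘ a ha
    have ha0 : a ≠ 0 := fun h => hA0 Θ hΘ (h ▸ ha)
    apply Finset.eq_of_subset_of_card_le
    · intro b hb
      obtain ⟨h, hh, rfl⟩ := Finset.mem_image.1 hb
      exact hstab Θ hΘ h hh a ha
    · rw [Finset.card_image_of_injective _ (mul_right_injective₀ ha0), hcard, hAc Θ hΘ]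
  have heta : ∀ Θ ∈ X, ∀ a ∈ A Θ, ‖∑ h ∈ HH p e, ψ (a * h)‖ = ‖(Θ : G → ℂ) x‖ := by
    intro Θ hΘ a ha
    have ha0 : a ≠ 0 := fun h => hA0 Θ hΘ (h ▸ ha)
    have h2 : ∑ h ∈ HH p e, ψ (a * h) = ∑ b ∈ A Θ, ψ b := by
      rw [← hcos Θ hΘ a ha, Finset.sum_image fun b _ c _ h => mul_right_injective₀ ha0 h]
    have h3 := hval Θ hΘ 1 one_ne_zero
    have h4 : x ^ (1 : ZMod p).val = x := by
      have := (pow_val_eq ho (k := (1 : ZMod p)) (n := 1)).2 (by simp)
      rw [this, pow_one]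
    simp only [h4, mul_one] at h3
    rw [h2, h3, norm_mul, hd1, one_mul]
  -- covering
  have hcov : X.biUnion A = Finset.univ.erase 0 := by
    apply Finset.eq_of_subset_of_card_le
    · intro a ha
      obtain ⟨Θ, hΘ, ha⟩ := Finset.mem_biUnion.1 ha
      exact Finset.mem_erase.2 ⟨fun h => hA0 Θ hΘ (h ▸ ha), Finset.mem_univ _⟩
    · rw [Finset.card_biUnion, Finset.sum_congr rfl hAc, Finset.sum_const, hX, smul_eq_mul,
        Finset.card_erase_of_mem (Finset.mem_univ _), Finset.card_univ, ZMod.card, ← ht, mul_comm]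
      intro Θ hΘ Θ' hΘ' hne
      exact (Finset.disjoint_image hinj).2 (hXd Θ hΘ Θ' hΘ' hne)
  have hsum := sum_four hψ (HH p e)
  rw [← Finset.add_sum_erase Finset.univ _ (Finset.mem_univ (0 : ZMod p)), ← hcov, Finset.sum_biUnion] at hsum
  · have h5 : ∀ Θ ∈ X, ∑ a ∈ A Θ, ‖∑ h ∈ HH p e, ψ (a * h)‖ ^ 4 = (e : ℝ) * ‖(Θ : G → ℂ) x‖ ^ 4 := by
      intro Θ hΘ
      rw [Finset.sum_congr rfl fun a ha => by rw [heta Θ hΘ a ha], Finset.sum_const, hAc Θ hΘ, nsmul_eq_mul]
    rw [Finset.sum_congr rfl h5, ← Finset.mul_sum] at hsum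
    have h6 : ‖∑ h ∈ HH p e, ψ (0 * h)‖ ^ 4 = (e : ℝ) ^ 4 := by
      simp [hcard]
    rw [h6, en_eq] at hsum
    have h7 : ∑ χ : IrrCharacter G, ‖(χ : G → ℂ) x‖ ^ 4 = e + ∑ Θ ∈ X, ‖(Θ : G → ℂ) x‖ ^ 4 := by
      rw [← Finset.sum_subset (Finset.subset_univ (NE ∪ X)), Finset.sum_union hdis]
      · congr 1
        rw [Finset.sum_congr rfl (g := fun _ => (1 : ℝ)), Finset.sum_const, hNE, nsmul_eq_mul, mul_one]
        intro χ hχ
        rw [hv χ hχ x hx hx1]
        rcases hε χ hχ with h | h <;> rw [h] <;> simp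
      · intro χ _ hχ
        rw [Finset.mem_union, not_or] at hχ
        rw [(hz χ hχ.1 hχ.2).1 x hx hx1]
        simp
    rw [h7]
    linear_combination hsum
  · intro Θ hΘ Θ' hΘ' hne
    exact (Finset.disjoint_image hinj).2 (hXd Θ hΘ Θ' hΘ' hne)

end Main

end Cfsg.Agent.H65.Ore
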